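import Cfsg.Agent.H28.GenF.Abs
import Cfsg.Agent.H28.T5Untw
import Cfsg.Agent.H316.U6Model
import Cfsg.Agent.H666.Mod
import Cfsg.Agent.H378.TorFin
import Cfsg.Agent.S2189

/-!
# S2187, field automorphisms of the untwisted exceptional groups (X6)

* `ff_untw` : the frame `FF` for `D.group F ≤ D.group k`;
* `gen_untw` : `Gen p (D.group F)` for all `F`, from the inner-diagonal parts.
-/

set_option autoImplicit false
set_option linter.unusedSectionVars false

namespace Cfsg.Agent.H28.GenF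

open CoxeterSystem Subgroup Cfsg Cfsg.Lie Cfsg.Lie.ChevalleyDatum
open Cfsg.Agent.ChevalleyStructure Cfsg.Agent.ChevalleyStructure.Elts Cfsg.Agent.ChevalleyStructure.CoxeterGeom
  Cfsg.Agent.ChevalleyStructure.CoxeterGeomTypes Cfsg.Agent.ChevalleyStructure.NPerm
open Cfsg.Agent.Tits.Roots Cfsg.Agent.Tits.Core Cfsg.Agent.Nodes.Reps Cfsg.Agent.Nodes.BNOf
  Cfsg.Agent.Nodes.RGDChev Cfsg.Agent.Nodes.Bruhat
open Cfsg.Agent.CpAut.RgdUntw Cfsg.Agent.KFacts.RgdField Cfsg.Agent.KFacts.RgdChevCoord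
open Cfsg.Agent.BpExc Cfsg.Agent.BpExc.Tow Cfsg.Agent.BpExc.TowChev Cfsg.Agent.BpExc.FamExt Cfsg.Agent.BpExc.FamUntw
  Cfsg.Agent.BpExc.FamInst Cfsg.Agent.BpExc.LangFr Cfsg.Agent.BpExc.FamField
open Cfsg.Agent.GpExc.Field (glMap emb coe_emb glMap_xG emb_injective coe_glMap glMap_injective)
open Cfsg.Agent.H469.Exc Cfsg.Agent.H469.Exc.SigFr
open Cfsg.Agent.H818.Gen Cfsg.Agent.H972.Gen

variable {D : ChevalleyDatum} {l : ℕ} {M : CoxeterMatrix (Fin l)} (hp : IsType D l M)

include hp in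
/-- `r`-elements fixed by the Frobenius automorphism come from the finite group -/
theorem mem_emb_of_pow {r : ℕ} [Fact r.Prime] {F : Type} [Field F] [Finite F] (f : F →+* KK r) {n : ℕ}
    (hn : Nat.card F = r ^ n) {y : ↥(D.group (KK r))} (hy : phi D (KK r) r n y = y) {j : ℕ} (hj : y ^ r ^ j = 1) :
    ∃ a, emb hp.inList f a = y := by
  obtain ⟨a, ⟨a', rfl⟩, t, ht, hσt, e⟩ := H378.TorFin.exists_split hp f r hn hy
  have hnorm : ∀ b, ∃ c, emb hp.inList f c = y * emb hp.inList f b * y⁻¹ := fun b => by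
    obtain ⟨c, hc⟩ := H378.TorFin.conj_range hp f r hn hy ⟨b, rfl⟩
    exact ⟨c, hc⟩
  obtain ⟨m, hm, h1⟩ := H666.Mods.pow_mem_range hp (locFin r) r (emb hp.inList f) hnorm ht e
  obtain ⟨a, ha⟩ := H469.Exc.mem_of_pow hj hm h1
  exact ⟨a, ha⟩

section Ff

variable {r : ℕ} [Fact r.Prime] {F : Type} [Field F] [Fintype F] [CharP F r]

/-- the root elements generate -/
theorem group_le {k : Type} [Field k] (N : Subgroup ↥(D.group k)) (h : ∀ s t, xs hp.inList s t ∈ N) : N = ⊤ := by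
  rw [eq_top_iff]
  rintro ⟨g, hg⟩ _
  have h1 : D.group k ≤ N.map (D.group k).subtype := by
    unfold ChevalleyDatum.group
    rw [closure_le]
    rintro x ⟨s, t, hx⟩
    refine ⟨xs hp.inList s t, h s t, ?_⟩
    apply Units.ext
    rw [hx]
    exact x_of_lt s.2 t
  obtain ⟨a, ha, e⟩ := h1 hg
  have e' : a = ⟨g, hg⟩ := Subtype.ext e
  rwa [← e']

theorem xs_pow_char {k : Type} [Field k] {r : ℕ} [CharP k r] (s : ℕ) (t : k) : (xs hp.inList s t) ^ r = 1 := by
  have h1 : ∀ j : ℕ, (xs hp.inList s t) ^ j = xs hp.inList s ((j : k) * t) := by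
    intro j
    induction j with
    | zero =>
      rw [pow_zero, Nat.cast_zero, zero_mul]
      apply Subtype.ext
      rw [coe_xs, xG_zero]
      rfl
    | succ j ih =>
      rw [pow_succ, ih]
      apply Subtype.ext
      rw [Subgroup.coe_mul, coe_xs, coe_xs, coe_xs, xG_add]
      congr 1
      push_cast
      ring
  rw [h1, CharP.cast_eq_zero, zero_mul]
  apply Subtype.ext
  rw [coe_xs, xG_zero]
  rfl

theorem emb_xs {k K : Type} [Field k] [Field K] (f : k →+* K) (s : ℕ) (t : k) :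
    emb hp.inList f (xs hp.inList s t) = xs hp.inList s (f t) := by
  apply Subtype.ext
  rw [coe_emb, coe_xs, coe_xs, glMap_xG]

theorem emb_comp {k K k' : Type} [Field k] [Field K] [Field k'] (f : k →+* K) (g : K →+* k') (a : ↥(D.group k)) :
    emb hp.inList g (emb hp.inList f a) = emb hp.inList (g.comp f) a := by
  apply Subtype.ext
  apply Units.ext
  rw [coe_emb, coe_emb, coe_emb, coe_glMap, coe_glMap, coe_glMap, Matrix.map_map]
  rfl

include hp in
/-- **The frame of a field automorphism of an untwisted group.** -/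
theorem ff_untw (hD : D ∈ [chevG2, chevB2, chevD4, chevF4, chevE6, chevE7, chevE8]) {p : ℕ} (hpp : p.Prime)
    (f : F →+* KK r) {n m : ℕ} (hn : Nat.card F = r ^ n) (hm : 0 < m) (hmn : m * p = n)
    (hZ : center ↥(D.group (KK r)) = ⊥) {F₀ : Subfield F} (hF₀ : Nat.card ↥F₀ = r ^ m)
    (hgen : Gen p ↥(D.group ↥F₀)) :
    FF p (emb hp.inList f) (phi D (KK r) r n) (phi D (KK r) r m) (emb hp.inList F₀.subtype).range := by
  obtain ⟨f₀, hf₀⟩ : ∃ f₀ : ↥F₀ →+* KK r, f₀ = f.comp F₀.subtype := ⟨_, rfl⟩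
  have hchar : CharP ↥F₀ r := (RingHom.charP_iff F₀.subtype F₀.subtype.injective r).2 inferInstance
  have hemb : ∀ b, emb hp.inList f (emb hp.inList F₀.subtype b) = emb hp.inList f₀ b := fun b => by
    rw [emb_comp hp, hf₀]
  have hk := locFin r
  have hmem : ∀ a : ↥(D.group F), phi D (KK r) r m (emb hp.inList f a) = emb hp.inList f a →
      (∃ j, a ^ r ^ j = 1) → a ∈ (emb hp.inList F₀.subtype).range := by
    rintro a ha ⟨j, hj⟩
    obtain ⟨b, hb⟩ := mem_emb_of_pow hp f₀ hF₀ ha (j := j) (by rw [← map_pow, hj, map_one])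
    exact ⟨b, emb_injective hp.inList f (by rw [hemb, hb])⟩
  have hfix : ∀ b, phi D (KK r) r m (emb hp.inList f₀ b) = emb hp.inList f₀ b := fun b => phi_emb hp r f₀ hF₀ b
  refine
    { inj := emb_injective hp.inList f
      cent := fun z hz => eq_one_of_comm hp hk r f hZ hz
      fixι := fun a => phi_emb hp r f hn a
      norm := fun y hy a => ?_
      pow := by rw [phi_pow, hmn]
      lang := fun h => ?_
      genL := hgen.congr (MonoidHom.ofInjective (emb_injective hp.inList F₀.subtype))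
      fixL := ?_
      charL := ?_
      overL := ?_
      centL := ?_ }
  · obtain ⟨b, hb⟩ := H378.TorFin.conj_range hp f r hn hy ⟨a, rfl⟩
    exact ⟨b, hb⟩
  · obtain ⟨z, hz⟩ := lang_all hp M.toCoxeterSystem hm (phi_isFrob r m) (phi_fr hp M.toCoxeterSystem r hk m) 1 h
    rw [map_one, one_mul] at hz
    exact ⟨z, hz⟩
  · rintro _ ⟨b, rfl⟩
    rw [hemb, hfix]
  · intro x hx
    -- the elements mapped into the range
    obtain ⟨N, hN⟩ : ∃ N : Subgroup ↥(D.group ↥F₀), ∀ b, b ∈ N ↔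
        x (emb hp.inList F₀.subtype b) ∈ (emb hp.inList F₀.subtype).range :=
      ⟨((emb hp.inList F₀.subtype).range.comap x.toMonoidHom).comap (emb hp.inList F₀.subtype), fun b => Iff.rfl⟩
    have h1 : N = ⊤ := group_le hp N fun s t => by
      rw [hN]
      refine hmem _ (hx _ (by rw [hemb, hfix])) ⟨1, ?_⟩
      rw [pow_one, ← map_pow, ← map_pow, xs_pow_char hp, map_one, map_one]
    rintro _ ⟨b, rfl⟩
    rw [← hN, h1]
    exact mem_top _
  · intro N hN
    -- the image in the general linear group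
    obtain ⟨N', hN'⟩ : ∃ N' : Subgroup (GL D.Idx (KK r)), N' = (N.map (emb hp.inList f)).map (D.group (KK r)).subtype :=
      ⟨_, rfl⟩
    have hfin : Finite ↥N' := by
      rw [hN']
      have h1 : Finite ↥(D.group F) := Finite.of_injective _ (Subgroup.subtype_injective _)
      have h2 : Finite ↥(N.map (emb hp.inList f)) :=
        Set.Finite.to_subtype (Set.Finite.image _ (Set.toFinite (N : Set ↥(D.group F))))
      exact Set.Finite.to_subtype (Set.Finite.image _ (Set.toFinite (N.map (emb hp.inList f) : Set ↥(D.group (KK r)))))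
    have hle : N' ≤ D.group (KK r) := by
      rw [hN']
      exact map_subtype_le _
    -- the subfield
    have hF₀' : Fintype.card F = (r ^ m) ^ p := by
      rw [← Nat.card_eq_fintype_card, hn, ← hmn, pow_mul]
    obtain ⟨e, he, h1, h2⟩ := S2189.result (k := KK r) r D hD m hm N' hfin hle (by
      rw [closure_le]
      rintro g ⟨s, t, ht, hg⟩
      obtain ⟨t₀, ht₀⟩ : ∃ t₀ : ↥F₀, f₀ t₀ = t := by
        have := Fintype.ofFinite ↥F₀
        have h3 := (BpExc.Emb.fix_iff_range (f := f₀) (φ := ((frb (KK r) r m : KK r ≃+* KK r) : KK r →+* KK r))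
          (fun t => by
            rw [← Nat.card_eq_fintype_card, hF₀]
            exact frb_apply _ r m t) t).1 (by
              exact (frb_apply _ r m t).trans ht)
        exact h3
      rw [hN']
      refine ⟨emb hp.inList f (emb hp.inList F₀.subtype (xs hp.inList s t₀)), ⟨_, hN ⟨_, rfl⟩, rfl⟩, ?_⟩
      rw [hemb, emb_xs hp, ht₀]
      apply Units.ext
      rw [hg]
      rfl)
    by_cases hpe : p ∣ e
    · left
      refine group_le hp N fun s t => ?_
      obtain ⟨c, rfl⟩ := hpe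
      have h3 : f t ^ (r ^ m) ^ (p * c) = f t := by
        have h4 : ∀ c : ℕ, t ^ Fintype.card F ^ c = t := fun c => FiniteField.pow_card_pow c t
        rw [pow_mul (r ^ m) p c, ← hF₀', ← map_pow, h4]
      have h4 : ((xs hp.inList s (f t) : ↥(D.group (KK r))) : GL D.Idx (KK r)) ∈ N' :=
        h1 (subset_closure ⟨s, f t, h3, rfl⟩)
      rw [hN'] at h4
      obtain ⟨_, ⟨a, ha, rfl⟩, e2⟩ := h4
      have e3 : emb hp.inList f a = xs hp.inList s (f t) := Subtype.ext e2
      rw [← emb_xs hp] at e3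
      rwa [← emb_injective hp.inList f e3]
    · right
      intro a ha
      have h3 : ((emb hp.inList f a : ↥(D.group (KK r))) : GL D.Idx (KK r)) ∈ N' := by
        rw [hN']
        exact ⟨_, ⟨a, ha, rfl⟩, rfl⟩
      have h4 := h2 _ h3
      apply Subtype.ext
      apply Units.ext
      rw [phi_coe]
      ext i j
      rw [Matrix.map_apply]
      obtain ⟨c, hc⟩ : ∃ c, c = (((emb hp.inList f a : ↥(D.group (KK r))) : GL D.Idx (KK r)) :
        Matrix D.Idx D.Idx (KK r)) i j := ⟨_, rfl⟩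
      have h5 : c ^ (r ^ m) ^ e = c := by rw [hc]; exact h4 i j
      have h6 : c ^ (r ^ m) ^ p = c := by
        have h7 : c = f ((((a : ↥(D.group F)) : GL D.Idx F) : Matrix D.Idx D.Idx F) i j) := hc
        rw [h7, ← hF₀', ← map_pow, FiniteField.pow_card]
      rw [← hc]
      -- the iterates of `u ↦ u ^ (r ^ m)`
      have h8 : ∀ j : ℕ, ((fun u : KK r => u ^ r ^ m)^[j]) c = c ^ (r ^ m) ^ j := by
        intro j
        induction j with
        | zero => simp
        | succ j ih => rw [Function.iterate_succ_apply', ih, ← pow_mul, pow_succ]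
      have h9 : Function.IsPeriodicPt (fun u : KK r => u ^ r ^ m) e c := by
        rw [Function.IsPeriodicPt, Function.IsFixedPt, h8, h5]
      have h10 : Function.IsPeriodicPt (fun u : KK r => u ^ r ^ m) p c := by
        rw [Function.IsPeriodicPt, Function.IsFixedPt, h8, h6]
      have h11 := h9.gcd h10
      rw [((Nat.Prime.coprime_iff_not_dvd hpp).2 hpe).symm] at h11
      exact h11
  · intro y hy
    exact eq_one_of_comm hp hk r f₀ hZ fun b => by
      rw [← hemb]
      exact hy _ ⟨b, rfl⟩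

end Ff

section Main

variable {r : ℕ} [Fact r.Prime] {F : Type} [Field F] [Fintype F] [CharP F r]

theorem center_bot' (hk1 : IsSimpleGroup ↥(D.group (KK r)) ∧ ¬ IsMulCommutative ↥(D.group (KK r))) :
    center ↥(D.group (KK r)) = ⊥ := by
  have := hk1.1
  refine KFacts.RgdLieCharP.center_eq_bot ?_
  by_contra hcon
  push Not at hcon
  exact hk1.2 ⟨⟨hcon⟩⟩

include hp in
/-- the diagram is connected and not empty -/
theorem conn_of_fin (hF1 : IsSimpleGroup ↥(D.group (GaloisField r 2)) ∧ ¬ IsMulCommutative ↥(D.group (GaloisField r 2))) :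
    Nonempty (Fin l) ∧ ∀ J : Set (Fin l), J.Nonempty → J ≠ Set.univ → ∃ a ∈ J, ∃ b, b ∉ J ∧ M a b ≠ 2 := by
  have hks := hF1.1
  have hZ : center ↥(D.group (GaloisField r 2)) = ⊥ := by
    refine KFacts.RgdLieCharP.center_eq_bot ?_
    by_contra hcon
    push Not at hcon
    exact hF1.2 ⟨⟨hcon⟩⟩
  have hW := finite_W hp M.toCoxeterSystem
  have R := rgd (K := GaloisField r 2) hp M.toCoxeterSystem r
  have hG1 : RGD.Sup (XX D l (GaloisField r 2)) {x | IsRoot M.toCoxeterSystem hp.isCartan x} = ⊤ :=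
    G1_eq_top hp M.toCoxeterSystem
  refine ⟨?_, KFacts.RgdLieCharP.conn_of_simple R hG1 hZ⟩
  rw [← Fin.pos_iff_nonempty]
  rcases Nat.eq_zero_or_pos l with h0 | h0
  · exfalso
    subst h0
    have h1 : (⊤ : Subgroup ↥(D.group (GaloisField r 2))) = ⊥ := by
      rw [← hG1, eq_bot_iff]
      refine RGD.Sup_le fun x hx => ?_
      obtain ⟨w, i, -⟩ := hx
      exact i.elim0
    apply hF1.2
    have h2 : ∀ g : ↥(D.group (GaloisField r 2)), g = 1 := fun g => by
      have : g ∈ (⊤ : Subgroup ↥(D.group (GaloisField r 2))) := Subgroup.mem_top g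
      rwa [h1, Subgroup.mem_bot] at this
    exact ⟨⟨fun a b => by rw [h2 a, h2 b]⟩⟩
  · exact h0

variable {d : ℕ} {B : Fin l → Fin l → ℤ}

include hp in
/-- the automorphisms of order `p` -/
theorem cases_untw (hB : InvC D l d B) (hd : d ≠ 0) (hM : SymTwo M)
    (hk1 : IsSimpleGroup ↥(D.group (KK r)) ∧ ¬ IsMulCommutative ↥(D.group (KK r)))
    (hF1 : IsSimpleGroup ↥(D.group (GaloisField r 2)) ∧ ¬ IsMulCommutative ↥(D.group (GaloisField r 2)))
    {p : ℕ} (hpp : p.Prime) (hp2 : p ≠ 2) (f : F →+* KK r) {n : ℕ} (hn : Nat.card F = r ^ n)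
    {x : MulAut ↥(D.group F)} (hx : x ^ p = 1) :
    x ∈ InD (emb hp.inList f) ∨ (n / p * p = n ∧ 0 < n / p ∧ ∃ (i : ℕ) (y : ↥(D.group (KK r))), i.Coprime p ∧
      ∀ a, emb hp.inList f ((x ^ i) a) = (MulAut.conj y * phi D (KK r) r (n / p)) (emb hp.inList f a)) := by
  obtain ⟨hl, hconn⟩ := conn_of_fin hp hF1
  have hroots : ∀ c : F, c ≠ 0 → ∃ b : KK r, b ^ d = f c := fun c _ =>
    IsAlgClosed.exists_pow_nat_eq (f c) (Nat.pos_of_ne_zero hd)
  rcases BpExc.FamUntw.cases hp (locFin r) r f hB hd hroots hl hconn (center_bot' hk1) hpp (hM.eq_one hpp hp2) hn hx with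
    h | h
  · obtain ⟨y, -, -, h⟩ := h
    exact Or.inl ⟨y, h⟩
  · right
    obtain ⟨i, m, hi, hm0, hmn, y, -, h⟩ := h
    have e : n / p = m := by rw [← hmn, Nat.mul_div_cancel _ hpp.pos]
    rw [e]
    exact ⟨hmn, hm0, i, y, hi, h⟩

include hp in
/-- **Outer automorphisms.** -/
theorem top_untw (hD : D ∈ [chevG2, chevB2, chevD4, chevF4, chevE6, chevE7, chevE8]) (hB : InvC D l d B) (hd : d ≠ 0)
    (hM : SymTwo M) (hk1 : IsSimpleGroup ↥(D.group (KK r)) ∧ ¬ IsMulCommutative ↥(D.group (KK r)))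
    (hF1 : IsSimpleGroup ↥(D.group (GaloisField r 2)) ∧ ¬ IsMulCommutative ↥(D.group (GaloisField r 2)))
    {p : ℕ} (hpp : p.Prime) (hp2 : p ≠ 2) (f : F →+* KK r)
    (ih : ∀ (F₀ : Type) [Field F₀] [Fintype F₀] [CharP F₀ r], Fintype.card F₀ < Fintype.card F → Gen p ↥(D.group F₀))
    {E : Subgroup (MulAut ↥(D.group F))} (hE : IsElementaryAbelian p E) (hc : p ^ 2 ≤ Nat.card E)
    {x : MulAut ↥(D.group F)} (hx : x ∈ E) (hx' : x ∉ InD (emb hp.inList f)) : Gam p E = ⊤ := by
  have : Fact p.Prime := ⟨hpp⟩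
  have hfin : Finite ↥(D.group F) := Finite.of_injective _ (Subgroup.subtype_injective _)
  obtain ⟨n, hn0, hn⟩ := exists_card (F := F) r
  obtain ⟨hmn, hm0, -⟩ := (cases_untw hp hB hd hM hk1 hF1 hpp hp2 f hn (hE.2 x hx)).resolve_left hx'
  obtain ⟨F₀, hF₀, hFF⟩ := H192.Fc.exists_subfield (p := p) r hm0 hmn hn
  have hchar : CharP ↥F₀ r := (RingHom.charP_iff F₀.subtype F₀.subtype.injective r).2 inferInstance
  have := Fintype.ofFinite ↥F₀
  have hgen : Gen p ↥(D.group ↥F₀) := ih ↥F₀ (by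
    rw [← Nat.card_eq_fintype_card, ← Nat.card_eq_fintype_card, hFF]
    have h1 : 1 < Nat.card ↥F₀ := by
      rw [Nat.card_eq_fintype_card]
      exact Fintype.one_lt_card
    calc Nat.card ↥F₀ = Nat.card ↥F₀ ^ 1 := (pow_one _).symm
      _ < Nat.card ↥F₀ ^ p := Nat.pow_lt_pow_right h1 hpp.one_lt)
  refine (ff_untw hp hD hpp f hn hm0 hmn (center_bot' hk1) hF₀ hgen).top (fun z hz => ?_) hE hc hx hx'
  exact (cases_untw hp hB hd hM hk1 hF1 hpp hp2 f hn (hE.2 z hz)).imp_right fun h => h.2.2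

include hp in
/-- **`Gen p (D.group F)` for all `F` from the inner-diagonal parts.** -/
theorem gen_untw (hD : D ∈ [chevG2, chevB2, chevD4, chevF4, chevE6, chevE7, chevE8]) (hB : InvC D l d B) (hd : d ≠ 0)
    (hM : SymTwo M) (hk1 : IsSimpleGroup ↥(D.group (KK r)) ∧ ¬ IsMulCommutative ↥(D.group (KK r)))
    (hF1 : IsSimpleGroup ↥(D.group (GaloisField r 2)) ∧ ¬ IsMulCommutative ↥(D.group (GaloisField r 2)))
    {p : ℕ} (hpp : p.Prime) (hp2 : p ≠ 2)
    (hin : ∀ (F : Type) [Field F] [Fintype F] [CharP F r] (f : F →+* KK r) (E : Subgroup (MulAut ↥(D.group F))),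
      IsElementaryAbelian p E → p ^ 2 ≤ Nat.card E → E ≤ InD (emb hp.inList f) → Gam p E = ⊤) :
    ∀ (F : Type) [Field F] [Fintype F] [CharP F r], Gen p ↥(D.group F) := by
  have key : ∀ (c : ℕ) (F : Type) [Field F] [Fintype F] [CharP F r], Fintype.card F = c → Gen p ↥(D.group F) := by
    intro c
    induction c using Nat.strong_induction_on with
    | _ c ih =>
      intro F _ _ _ hF E hE hc
      obtain ⟨f⟩ := RowsUntw.exists_emb r F
      by_cases h : E ≤ InD (emb hp.inList f)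
      · exact hin F f E hE hc h
      · obtain ⟨x, hx, hx'⟩ := Set.not_subset.1 h
        exact top_untw hp hD hB hd hM hk1 hF1 hpp hp2 f (fun F₀ _ _ _ h0 => ih _ (by omega) F₀ rfl) hE hc hx hx'
  exact fun F _ _ _ => key _ F rfl

end Main

end Cfsg.Agent.H28.GenF
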