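import Cfsg.Agent.H28.GenF.Std
import Cfsg.Agent.H28.GenF.Untw
import Cfsg.Agent.H818.Gen.Exc

/-!
# S2187: the rows of the untwisted exceptional groups from their inner-diagonal parts (X6)

* `gen_exc` : `Gen p (D.group F)` for all `F` from `GenIn m p` for all `m : MData hp r |F| (D.group F)` with trivial `m.g`;
* `gen_g2`, `gen_f4`, `gen_e6`, `gen_e7`, `gen_e8`.
-/

set_option autoImplicit false
set_option linter.unusedSectionVars false

namespace Cfsg.Agent.H28.GenF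

open CoxeterSystem Subgroup Cfsg Cfsg.Lie Cfsg.Lie.ChevalleyDatum
open Cfsg.Agent.ChevalleyStructure Cfsg.Agent.ChevalleyStructure.Elts Cfsg.Agent.ChevalleyStructure.CoxeterGeom
  Cfsg.Agent.ChevalleyStructure.CoxeterGeomTypes Cfsg.Agent.ChevalleyStructure.NPerm
open Cfsg.Agent.Tits.Roots Cfsg.Agent.Tits.Core Cfsg.Agent.Nodes.Reps Cfsg.Agent.Nodes.BNOf
  Cfsg.Agent.Nodes.RGDChev Cfsg.Agent.Nodes.Bruhat
open Cfsg.Agent.CpAut.RgdUntw Cfsg.Agent.KFacts.RgdField Cfsg.Agent.KFacts.RgdChevCoord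
open Cfsg.Agent.BpExc Cfsg.Agent.BpExc.Tow Cfsg.Agent.BpExc.TowChev Cfsg.Agent.BpExc.FamExt Cfsg.Agent.BpExc.FamUntw
  Cfsg.Agent.BpExc.FamInst Cfsg.Agent.BpExc.LangFr Cfsg.Agent.BpExc.FamField
open Cfsg.Agent.GpExc.Field (glMap emb coe_emb glMap_xG emb_injective coe_glMap glMap_injective)
open Cfsg.Agent.H469.Exc Cfsg.Agent.H469.Exc.SigFr
open Cfsg.Agent.H818.Gen Cfsg.Agent.H972.Gen Cfsg.Agent.H316.U6

section

variable {D : ChevalleyDatum} {l : ℕ} {M : CoxeterMatrix (Fin l)} (hp : IsType D l M) {r : ℕ} [Fact r.Prime]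

include hp in
/-- **The rows from their inner-diagonal parts.** -/
theorem gen_exc' (hD : D ∈ [chevG2, chevB2, chevD4, chevF4, chevE6, chevE7, chevE8]) {d : ℕ} {B : Fin l → Fin l → ℤ}
    (hB : InvC D l d B) (hd : d = 1 ∨ d.Prime) (hM : SymTwo M)
    (hk1 : IsSimpleGroup ↥(D.group (KK r)) ∧ ¬ IsMulCommutative ↥(D.group (KK r)))
    (hF1 : IsSimpleGroup ↥(D.group (GaloisField r 2)) ∧ ¬ IsMulCommutative ↥(D.group (GaloisField r 2)))
    {p : ℕ} (hpp : p.Prime) (hp2 : p ≠ 2)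
    (hin : ∀ (F : Type) [Field F] [Fintype F] [CharP F r] (f : F →+* KK r) (n : ℕ)
      (m : MData hp r (Fintype.card F) ↥(D.group F)), Nat.card F = r ^ n → m.ι = emb hp.inList f →
      m.σ = phi D (KK r) r n → m.g = AddEquiv.refl _ → m.dd = Nat.gcd d (Fintype.card F - 1) → GenIn m p) :
    ∀ (F : Type) [Field F] [Fintype F] [CharP F r], Gen p ↥(D.group F) := by
  have : Fact p.Prime := ⟨hpp⟩
  have hd0 : d ≠ 0 := by
    rcases hd with h | h
    · omega
    · exact h.ne_zero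
  refine gen_untw hp hD hB hd0 hM hk1 hF1 hpp hp2 fun F _ _ _ f E hE hc hle => ?_
  obtain ⟨n, hn0, hn⟩ := exists_card (F := F) r
  obtain ⟨m, hm1, hm2, hm3, hm4⟩ := mdata_std' hp F hB hd0 hd f hn0 hn
  have hZ := center_bot' hk1
  have hcc : ∀ z : ↥(D.group (KK r)), (∀ a, z * m.ι a = m.ι a * z) → z = 1 := fun z hz => by
    rw [hm1] at hz
    exact eq_one_of_comm hp (locFin r) r f hZ hz
  refine top_of_inner m.inj m.norm hcc (hin F f n m hn hm1 hm2 hm3 hm4) hE hc fun e he he1 => ?_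
  obtain ⟨y, hy⟩ := hle he
  rw [← hm1] at hy
  refine ⟨y, ?_, hy⟩
  have h2 : y⁻¹ * m.σ y = 1 := by
    apply hcc
    intro a
    have h3 : m.σ y * m.ι a * (m.σ y)⁻¹ = y * m.ι a * y⁻¹ := by
      rw [← hy, ← m.fix (e a), hy, map_mul, map_mul, map_inv, m.fix]
    calc y⁻¹ * m.σ y * m.ι a = y⁻¹ * (m.σ y * m.ι a * (m.σ y)⁻¹) * m.σ y := by group
      _ = y⁻¹ * (y * m.ι a * y⁻¹) * m.σ y := by rw [h3]
      _ = m.ι a * (y⁻¹ * m.σ y) := by group
  exact (inv_mul_eq_one.1 h2).symm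

include hp in
/-- **The rows from their inner-diagonal parts.** -/
theorem gen_exc (hD : D ∈ [chevG2, chevB2, chevD4, chevF4, chevE6, chevE7, chevE8]) {d : ℕ} {B : Fin l → Fin l → ℤ}
    (hB : InvC D l d B) (hd : d = 1 ∨ d.Prime) (hM : SymTwo M)
    (hk1 : IsSimpleGroup ↥(D.group (KK r)) ∧ ¬ IsMulCommutative ↥(D.group (KK r)))
    (hF1 : IsSimpleGroup ↥(D.group (GaloisField r 2)) ∧ ¬ IsMulCommutative ↥(D.group (GaloisField r 2)))
    {p : ℕ} (hpp : p.Prime) (hp2 : p ≠ 2)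
    (hin : ∀ (F : Type) [Field F] [Fintype F] [CharP F r] (m : MData hp r (Fintype.card F) ↥(D.group F)),
      m.g = AddEquiv.refl _ → GenIn m p) :
    ∀ (F : Type) [Field F] [Fintype F] [CharP F r], Gen p ↥(D.group F) :=
  gen_exc' hp hD hB hd hM hk1 hF1 hpp hp2 fun F _ _ _ _ _ m _ _ _ h _ => hin F m h

end

section Fam

variable {r : ℕ} [Fact r.Prime] {p : ℕ} (hpp : p.Prime) (hp2 : p ≠ 2)

theorem exists_ne_gal : ∃ c : GaloisField r 2, c ≠ 0 ∧ c ≠ 1 := by
  have := Fintype.ofFinite (GaloisField r 2)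
  refine RowsUntw.exists_ne ?_
  rw [← Nat.card_eq_fintype_card, GaloisField.card r 2 (by norm_num)]
  have := (Fact.out : r.Prime).two_le
  nlinarith

include hpp hp2 in
theorem gen_g2 (hin : ∀ (F : Type) [Field F] [Fintype F] [CharP F r]
    (m : MData RowsUntw.g2T r (Fintype.card F) ↥(chevG2.group F)), m.g = AddEquiv.refl _ → GenIn m p) :
    ∀ (F : Type) [Field F] [Fintype F] [CharP F r], Gen p ↥(chevG2.group F) :=
  gen_exc RowsUntw.g2T (by simp) inv_G2 (Or.inl rfl) symTwo_G2 (S1055.result (exists_ne_algClosed _))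
    (S1055.result exists_ne_gal) hpp hp2 hin

include hpp hp2 in
theorem gen_f4 (hin : ∀ (F : Type) [Field F] [Fintype F] [CharP F r]
    (m : MData RowsUntw.f4T r (Fintype.card F) ↥(chevF4.group F)), m.g = AddEquiv.refl _ → GenIn m p) :
    ∀ (F : Type) [Field F] [Fintype F] [CharP F r], Gen p ↥(chevF4.group F) :=
  gen_exc RowsUntw.f4T (by simp) inv_F4 (Or.inl rfl) symTwo_F4 (S1054.result chevF4 (by simp))
    (S1054.result chevF4 (by simp)) hpp hp2 hin

include hpp hp2 in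
theorem gen_e6 (hin : ∀ (F : Type) [Field F] [Fintype F] [CharP F r]
    (m : MData RowsUntw.e6T r (Fintype.card F) ↥(chevE6.group F)), m.g = AddEquiv.refl _ → GenIn m p) :
    ∀ (F : Type) [Field F] [Fintype F] [CharP F r], Gen p ↥(chevE6.group F) :=
  gen_exc RowsUntw.e6T (by simp) inv_E6 (Or.inr Nat.prime_three) symTwo_E6 (S1054.result chevE6 (by simp))
    (S1054.result chevE6 (by simp)) hpp hp2 hin

include hpp hp2 in
theorem gen_e7 (hin : ∀ (F : Type) [Field F] [Fintype F] [CharP F r]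
    (m : MData RowsUntw.e7T r (Fintype.card F) ↥(chevE7.group F)), m.g = AddEquiv.refl _ → GenIn m p) :
    ∀ (F : Type) [Field F] [Fintype F] [CharP F r], Gen p ↥(chevE7.group F) :=
  gen_exc RowsUntw.e7T (by simp) inv_E7 (Or.inr Nat.prime_two) symTwo_E7 (S1054.result chevE7 (by simp))
    (S1054.result chevE7 (by simp)) hpp hp2 hin

include hpp hp2 in
theorem gen_e8 (hin : ∀ (F : Type) [Field F] [Fintype F] [CharP F r]
    (m : MData RowsUntw.e8T r (Fintype.card F) ↥(chevE8.group F)), m.g = AddEquiv.refl _ → GenIn m p) :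
    ∀ (F : Type) [Field F] [Fintype F] [CharP F r], Gen p ↥(chevE8.group F) :=
  gen_exc RowsUntw.e8T (by simp) inv_E8 (Or.inl rfl) symTwo_E8 (S1054.result chevE8 (by simp))
    (S1054.result chevE8 (by simp)) hpp hp2 hin

include hpp hp2 in
theorem gen_g2' (hin : ∀ (F : Type) [Field F] [Fintype F] [CharP F r] (f : F →+* KK r) (n : ℕ)
    (m : MData RowsUntw.g2T r (Fintype.card F) ↥(chevG2.group F)), Nat.card F = r ^ n → m.ι = emb RowsUntw.g2T.inList f →
    m.σ = phi chevG2 (KK r) r n → m.g = AddEquiv.refl _ → m.dd = Nat.gcd 1 (Fintype.card F - 1) → GenIn m p) :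
    ∀ (F : Type) [Field F] [Fintype F] [CharP F r], Gen p ↥(chevG2.group F) :=
  gen_exc' RowsUntw.g2T (by simp) inv_G2 (Or.inl rfl) symTwo_G2 (S1055.result (exists_ne_algClosed _))
    (S1055.result exists_ne_gal) hpp hp2 hin

include hpp hp2 in
theorem gen_f4' (hin : ∀ (F : Type) [Field F] [Fintype F] [CharP F r] (f : F →+* KK r) (n : ℕ)
    (m : MData RowsUntw.f4T r (Fintype.card F) ↥(chevF4.group F)), Nat.card F = r ^ n → m.ι = emb RowsUntw.f4T.inList f →
    m.σ = phi chevF4 (KK r) r n → m.g = AddEquiv.refl _ → m.dd = Nat.gcd 1 (Fintype.card F - 1) → GenIn m p) :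
    ∀ (F : Type) [Field F] [Fintype F] [CharP F r], Gen p ↥(chevF4.group F) :=
  gen_exc' RowsUntw.f4T (by simp) inv_F4 (Or.inl rfl) symTwo_F4 (S1054.result chevF4 (by simp))
    (S1054.result chevF4 (by simp)) hpp hp2 hin

include hpp hp2 in
theorem gen_e6' (hin : ∀ (F : Type) [Field F] [Fintype F] [CharP F r] (f : F →+* KK r) (n : ℕ)
    (m : MData RowsUntw.e6T r (Fintype.card F) ↥(chevE6.group F)), Nat.card F = r ^ n → m.ι = emb RowsUntw.e6T.inList f →
    m.σ = phi chevE6 (KK r) r n → m.g = AddEquiv.refl _ → m.dd = Nat.gcd 3 (Fintype.card F - 1) → GenIn m p) :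
    ∀ (F : Type) [Field F] [Fintype F] [CharP F r], Gen p ↥(chevE6.group F) :=
  gen_exc' RowsUntw.e6T (by simp) inv_E6 (Or.inr Nat.prime_three) symTwo_E6 (S1054.result chevE6 (by simp))
    (S1054.result chevE6 (by simp)) hpp hp2 hin

include hpp hp2 in
theorem gen_e7' (hin : ∀ (F : Type) [Field F] [Fintype F] [CharP F r] (f : F →+* KK r) (n : ℕ)
    (m : MData RowsUntw.e7T r (Fintype.card F) ↥(chevE7.group F)), Nat.card F = r ^ n → m.ι = emb RowsUntw.e7T.inList f →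
    m.σ = phi chevE7 (KK r) r n → m.g = AddEquiv.refl _ → m.dd = Nat.gcd 2 (Fintype.card F - 1) → GenIn m p) :
    ∀ (F : Type) [Field F] [Fintype F] [CharP F r], Gen p ↥(chevE7.group F) :=
  gen_exc' RowsUntw.e7T (by simp) inv_E7 (Or.inr Nat.prime_two) symTwo_E7 (S1054.result chevE7 (by simp))
    (S1054.result chevE7 (by simp)) hpp hp2 hin

include hpp hp2 in
theorem gen_e8' (hin : ∀ (F : Type) [Field F] [Fintype F] [CharP F r] (f : F →+* KK r) (n : ℕ)
    (m : MData RowsUntw.e8T r (Fintype.card F) ↥(chevE8.group F)), Nat.card F = r ^ n → m.ι = emb RowsUntw.e8T.inList f →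
    m.σ = phi chevE8 (KK r) r n → m.g = AddEquiv.refl _ → m.dd = Nat.gcd 1 (Fintype.card F - 1) → GenIn m p) :
    ∀ (F : Type) [Field F] [Fintype F] [CharP F r], Gen p ↥(chevE8.group F) :=
  gen_exc' RowsUntw.e8T (by simp) inv_E8 (Or.inl rfl) symTwo_E8 (S1054.result chevE8 (by simp))
    (S1054.result chevE8 (by simp)) hpp hp2 hin

end Fam

end Cfsg.Agent.H28.GenF
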