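import Cfsg.Agent.H972.Gen.FieldAbs
import Cfsg.Agent.H818.Gen.Defs

/-!
# S2187, field automorphisms of the exceptional groups: abstract part (X6)

* `InD ι` : the automorphisms of `K₀` induced by elements of `Y` (`ι : K₀ →* Y`);
* `FF p ι σ φ L` : `σ = φ ^ p` fixes `ι K₀`, Lang's theorem for `φ`, `L ≤ K₀` fixed by `φ` with `Gen p L`, invariant under the
  automorphisms preserving `C_{K₀}(φ)`, trivial centralizer, overgroups of `L` in `K₀` are `K₀` or centralised by `φ`;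
* `FF.dat` : `Dat p (InD ι) x` for `x` of the form `ι (x a) = y (φ (ι a)) y⁻¹`;
* `FF.top` : `Gam p E = ⊤` for `E` containing an element outside `InD ι`.
-/

set_option autoImplicit false
set_option linter.unusedSectionVars false

namespace Cfsg.Agent.H28.GenF

open Cfsg Subgroup Cfsg.Agent.H818.Gen Cfsg.Agent.H972.Gen

section dat

variable {G : Type*} [Group G]

/-- conjugation by an element of `Lin` -/
theorem Dat_conj {p : ℕ} {Lin : Subgroup (MulAut G)} {σ : MulAut G} (h : Dat p Lin σ) {f : MulAut G} (hf : f ∈ Lin) :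
    Dat p Lin (f * σ * f⁻¹) := by
  obtain ⟨L, h1, h2, h3, h4, h5⟩ := h
  have hff : ∀ g : G, f (f⁻¹ g) = g := fun g => MulAut.apply_inv_self G f g
  have hff' : ∀ g : G, f⁻¹ (f g) = g := fun g => MulAut.inv_apply_self G f g
  refine ⟨L.map f.toMonoidHom, h1.congr (L.equivMapOfInjective f.toMonoidHom f.injective), ?_, ?_, ?_, ?_⟩
  · rintro x hx _ ⟨g, hg, rfl⟩
    refine ⟨(f⁻¹ * x * f) g, h2 _ ?_ g hg, ?_⟩
    · have h6 : f⁻¹ * (x * (f * σ * f⁻¹)) * f = f⁻¹ * ((f * σ * f⁻¹) * x) * f := by rw [hx]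
      calc f⁻¹ * x * f * σ = f⁻¹ * (x * (f * σ * f⁻¹)) * f := by group
        _ = f⁻¹ * ((f * σ * f⁻¹) * x) * f := h6
        _ = σ * (f⁻¹ * x * f) := by group
    · show f (f⁻¹ (x (f g))) = x (f g)
      rw [hff]
  · rintro _ ⟨g, hg, rfl⟩
    show f (σ (f⁻¹ (f g))) = f g
    rw [hff', h3 g hg]
  · intro M hM
    have h6 : L ≤ M.comap f.toMonoidHom := by
      rw [← map_le_iff_le_comap]
      exact hM
    rcases h4 _ h6 with h7 | h7
    · left
      rw [eq_top_iff]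
      intro g _
      have h8 : f⁻¹ g ∈ M.comap f.toMonoidHom := by rw [h7]; exact mem_top _
      have h9 : f (f⁻¹ g) ∈ M := h8
      rwa [hff] at h9
    · right
      intro g hg
      have h8 : f⁻¹ g ∈ M.comap f.toMonoidHom := by
        show f (f⁻¹ g) ∈ M
        rwa [hff]
      show f (σ (f⁻¹ g)) = g
      rw [h7 _ h8, hff]
  · intro x hx hxL
    have h6 : f⁻¹ * x * f ∈ Lin := Lin.mul_mem (Lin.mul_mem (Lin.inv_mem hf) hx) hf
    have h7 := h5 _ h6 fun g hg => by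
      have h8 : x (f g) = f g := hxL _ ⟨g, hg, rfl⟩
      show f⁻¹ (x (f g)) = g
      rw [h8]
      exact hff' g
    calc x = f * (f⁻¹ * x * f) * f⁻¹ := by group
      _ = 1 := by rw [h7]; group

theorem apply_pow {x : MulAut G} {g : G} (h : x g = g) (n : ℕ) : (x ^ n) g = g := by
  induction n with
  | zero => rfl
  | succ n ih => rw [pow_succ', MulAut.mul_apply, ih, h]

theorem eq_pow_of_coprime {M : Type*} [Monoid M] {p : ℕ} [hpp : Fact p.Prime] {x : M} (hx : x ^ p = 1) {i : ℕ}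
    (hi : i.Coprime p) : ∃ j, x = (x ^ i) ^ j := by
  obtain ⟨j, -, hj⟩ := Nat.exists_mul_mod_eq_one_of_coprime hi hpp.out.one_lt
  refine ⟨j, ?_⟩
  rw [← pow_mul, ← Nat.div_add_mod (i * j) p, pow_add, pow_mul, hx, one_pow, one_mul, hj, pow_one]

/-- a power prime to `p` -/
theorem Dat_of_pow {p : ℕ} [hpp : Fact p.Prime] {Lin : Subgroup (MulAut G)} {x : MulAut G} (hx : x ^ p = 1) {i : ℕ}
    (hi : i.Coprime p) (h : Dat p Lin (x ^ i)) : Dat p Lin x := by
  obtain ⟨j, hj⟩ := eq_pow_of_coprime hx hi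
  have hfix : ∀ g, (x ^ i) g = g → x g = g := fun g hg => by
    rw [hj]; exact apply_pow hg j
  obtain ⟨L, h1, h2, h3, h4, h5⟩ := h
  refine ⟨L, h1, fun z hz => h2 z ?_, fun g hg => hfix g (h3 g hg), fun M hM => (h4 M hM).imp_right fun h6 g hg =>
    hfix g (h6 g hg), h5⟩
  exact (Commute.pow_right hz i)

end dat

section frame

variable {Y K₀ : Type*} [Group Y] [Group K₀]

/-- the automorphisms induced by elements of `Y` -/
def InD (ι : K₀ →* Y) : Subgroup (MulAut K₀) where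
  carrier := {z | ∃ y : Y, ∀ a, ι (z a) = y * ι a * y⁻¹}
  mul_mem' := by
    rintro z z' ⟨y, hy⟩ ⟨y', hy'⟩
    refine ⟨y * y', fun a => ?_⟩
    rw [MulAut.mul_apply, hy, hy']
    group
  one_mem' := ⟨1, fun a => by simp⟩
  inv_mem' := by
    rintro z ⟨y, hy⟩
    refine ⟨y⁻¹, fun a => ?_⟩
    have h1 := hy (z⁻¹ a)
    rw [MulAut.apply_inv_self] at h1
    rw [h1]
    group

theorem mem_InD {ι : K₀ →* Y} {z : MulAut K₀} : z ∈ InD ι ↔ ∃ y : Y, ∀ a, ι (z a) = y * ι a * y⁻¹ := Iff.rfl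

/-- the frame of a field automorphism -/
structure FF (p : ℕ) (ι : K₀ →* Y) (σ φ : MulAut Y) (L : Subgroup K₀) : Prop where
  inj : Function.Injective ι
  cent : ∀ z, (∀ a, z * ι a = ι a * z) → z = 1
  fixι : ∀ a, σ (ι a) = ι a
  norm : ∀ y, σ y = y → ∀ a, ∃ b, ι b = y * ι a * y⁻¹
  pow : φ ^ p = σ
  lang : ∀ h : Y, ∃ g, h = g⁻¹ * φ g
  genL : Gen p ↥L
  fixL : ∀ a ∈ L, φ (ι a) = ι a
  charL : ∀ x : MulAut K₀, (∀ a, φ (ι a) = ι a → φ (ι (x a)) = ι (x a)) → ∀ a ∈ L, x a ∈ L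
  overL : ∀ M : Subgroup K₀, L ≤ M → M = ⊤ ∨ ∀ a ∈ M, φ (ι a) = ι a
  centL : ∀ y, (∀ a ∈ L, y * ι a = ι a * y) → y = 1

variable {p : ℕ} {ι : K₀ →* Y} {σ φ : MulAut Y} {L : Subgroup K₀}

/-- the standard automorphism -/
theorem FF.dat_std (h : FF p ι σ φ L) {x : MulAut K₀} (hx : ∀ a, ι (x a) = φ (ι a)) : Dat p (InD ι) x := by
  have hfix : ∀ a, φ (ι a) = ι a ↔ x a = a := fun a => by rw [← hx, h.inj.eq_iff]
  refine ⟨L, h.genL, fun z hz a ha => h.charL z (fun b hb => ?_) a ha, fun a ha => (hfix a).1 (h.fixL a ha),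
    fun M hM => (h.overL M hM).imp_right fun h1 a ha => (hfix a).1 (h1 a ha), ?_⟩
  · rw [hfix] at hb ⊢
    have h1 : (x * z) b = (z * x) b := by rw [hz]
    rw [MulAut.mul_apply, MulAut.mul_apply, hb] at h1
    exact h1
  · rintro z ⟨y, hy⟩ hz
    have h1 : y = 1 := h.centL y fun a ha => by
      have h2 := hy a
      rw [hz a ha] at h2
      exact (eq_mul_inv_iff_mul_eq.1 h2).symm
    subst h1
    refine MulEquiv.ext fun a => h.inj ?_
    rw [hy]
    simp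

/-- **The data of a field automorphism.** -/
theorem FF.dat (h : FF p ι σ φ L) {x : MulAut K₀} (hxp : x ^ p = 1) {y : Y}
    (hx : ∀ a, ι (x a) = (MulAut.conj y * φ) (ι a)) : Dat p (InD ι) x := by
  obtain ⟨g, hg⟩ := h.lang y
  have hφ : ∀ a, φ (g * ι a * g⁻¹) = g * ι (x a) * g⁻¹ := by
    intro a
    rw [hx, MulAut.mul_apply, MulAut.conj_apply, hg, map_mul, map_mul, map_inv]
    group
  have hφn : ∀ n : ℕ, ∀ a, (φ ^ n) (g * ι a * g⁻¹) = g * ι ((x ^ n) a) * g⁻¹ := by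
    intro n
    induction n with
    | zero => intro a; rfl
    | succ n ih => intro a; rw [pow_succ', MulAut.mul_apply, ih, hφ, pow_succ', MulAut.mul_apply]
  have hσg : σ g = g := by
    have h2 : g⁻¹ * σ g = 1 := by
      apply h.cent
      intro a
      have h3 := hφn p a
      rw [h.pow, hxp, MulAut.one_apply, map_mul, map_mul, map_inv, h.fixι] at h3
      calc g⁻¹ * σ g * ι a = g⁻¹ * (σ g * ι a * (σ g)⁻¹) * σ g := by group
        _ = g⁻¹ * (g * ι a * g⁻¹) * σ g := by rw [h3]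
        _ = ι a * (g⁻¹ * σ g) := by group
    exact (inv_mul_eq_one.1 h2).symm
  have hσg' : σ g⁻¹ = g⁻¹ := by rw [map_inv, hσg]
  -- the automorphism induced by `g`
  choose b hb using h.norm g hσg
  choose b' hb' using h.norm g⁻¹ hσg'
  let γ : MulAut K₀ :=
    { toFun := b
      invFun := b'
      left_inv := fun a => h.inj (by rw [hb', hb]; group)
      right_inv := fun a => h.inj (by rw [hb, hb']; group)
      map_mul' := fun a a' => h.inj (by rw [hb, map_mul, map_mul, hb, hb]; group) }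
  have hγ : ∀ a, ι (γ a) = g * ι a * g⁻¹ := hb
  have hγD : γ ∈ InD ι := ⟨g, hγ⟩
  have h1 : ∀ a, ι ((γ * x * γ⁻¹) a) = φ (ι a) := by
    intro a
    have h2 := hφ (γ⁻¹ a)
    rw [← hγ (γ⁻¹ a), MulAut.apply_inv_self] at h2
    rw [MulAut.mul_apply, MulAut.mul_apply, hγ, ← h2]
  have h2 := Dat_conj (h.dat_std h1) ((InD ι).inv_mem hγD)
  have h3 : γ⁻¹ * (γ * x * γ⁻¹) * γ⁻¹⁻¹ = x := by group
  rwa [h3] at h2

/-- **`Gam p E = ⊤` for `E` containing a field automorphism.** -/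
theorem FF.top [Finite K₀] [hpp : Fact p.Prime] (h : FF p ι σ φ L) {E : Subgroup (MulAut K₀)}
    (hcases : ∀ x ∈ E, x ∈ InD ι ∨ ∃ (i : ℕ) (y : Y), i.Coprime p ∧
      ∀ a, ι ((x ^ i) a) = (MulAut.conj y * φ) (ι a))
    (hE : IsElementaryAbelian p E) (hc : p ^ 2 ≤ Nat.card E) {x : MulAut K₀} (hx : x ∈ E) (hx' : x ∉ InD ι) :
    Gam p E = ⊤ := by
  have hpow : ∀ z ∈ E, z ^ p = 1 := hE.2
  obtain ⟨i, y, hi, hy⟩ := (hcases x hx).resolve_left hx'
  have hcomm : ∀ a ∈ E, ∀ b ∈ E, a * b = b * a := fun a ha b hb =>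
    congrArg (fun z : ↥E => (z : MulAut K₀)) (hE.1.1.1 ⟨a, ha⟩ ⟨b, hb⟩)
  -- a nontrivial element of `E ∩ InD ι`
  obtain ⟨x₁, hx₁, hx₁', hx₁1⟩ : ∃ x₁ ∈ E, x₁ ∈ InD ι ∧ x₁ ≠ 1 := by
    obtain ⟨z, hz, hzx⟩ : ∃ z ∈ E, z ∉ zpowers x := by
      by_contra hcon
      push Not at hcon
      have h1 : E ≤ zpowers x := hcon
      have h2 : Nat.card ↥E ≤ Nat.card ↥(zpowers x) := by
        have h3 : Finite ↥(zpowers x) := by
          rw [← Nat.card_pos_iff.trans (and_iff_right_of_imp fun _ => ⟨1⟩) |>.eq]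
          rw [Nat.card_zpowers]
          exact orderOf_pos_iff.2 (isOfFinOrder_iff_pow_eq_one.2 ⟨p, hpp.out.pos, hpow x hx⟩)
        exact card_le_of_le h1
      rw [Nat.card_zpowers] at h2
      have h3 : orderOf x ≤ p := orderOf_le_of_pow_eq_one hpp.out.pos (hpow x hx)
      have h4 := hpp.out.one_lt
      nlinarith
    rcases hcases z hz with h1 | ⟨j, y', hj, hy'⟩
    · exact ⟨z, hz, h1, fun h2 => hzx (by rw [h2]; exact one_mem _)⟩
    · refine ⟨z ^ j * (x ^ i)⁻¹, E.mul_mem (E.pow_mem hz j) (E.inv_mem (E.pow_mem hx i)), ⟨y' * y⁻¹, fun a => ?_⟩, ?_⟩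
      · have h1 := hy ((x ^ i)⁻¹ a)
        rw [MulAut.apply_inv_self, MulAut.mul_apply, MulAut.conj_apply] at h1
        rw [MulAut.mul_apply, hy', MulAut.mul_apply, MulAut.conj_apply, h1]
        group
      · intro h1
        obtain ⟨m, hm⟩ := eq_pow_of_coprime (hpow z hz) hj
        apply hzx
        have h2 : z ^ j = x ^ i := mul_inv_eq_one.1 h1
        rw [hm, h2]
        exact (zpowers x).pow_mem ((zpowers x).pow_mem (mem_zpowers x) i) m
  refine field_top hE hc (Lin := InD ι) (fun ψ hψ hψ' => ?_) hx hx' hx₁ hx₁' hx₁1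
  obtain ⟨j, y', hj, hy'⟩ := (hcases ψ hψ).resolve_left hψ'
  exact Dat_of_pow (hpow ψ hψ) hj (h.dat (by rw [← pow_mul, mul_comm, pow_mul, hpow ψ hψ, one_pow]) hy')

end frame

end Cfsg.Agent.H28.GenF
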