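import Cfsg.Agent.H316.U6Model

/-!
# `MData` for the untwisted groups with the given embedding (S2187, X6)
-/

set_option autoImplicit false
set_option linter.unusedSectionVars false

namespace Cfsg.Agent.H28.GenF

open CoxeterSystem Cfsg Cfsg.Lie Cfsg.Lie.ChevalleyDatum
open Cfsg.Agent.ChevalleyStructure Cfsg.Agent.ChevalleyStructure.Elts Cfsg.Agent.ChevalleyStructure.CoxeterGeom
  Cfsg.Agent.ChevalleyStructure.CoxeterGeomTypes Cfsg.Agent.ChevalleyStructure.NPerm
open Cfsg.Agent.Tits.Roots Cfsg.Agent.Tits.Core Cfsg.Agent.Nodes Cfsg.Agent.Nodes.Reps Cfsg.Agent.Nodes.BNOf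
  Cfsg.Agent.Nodes.OppDec
  Cfsg.Agent.Nodes.RGDChev Cfsg.Agent.Nodes.Bruhat Cfsg.Agent.Nodes.NormalForm
open Cfsg.Agent.KFacts.RgdField Cfsg.Agent.KFacts.RgdChevCoord
open Cfsg.Agent.BpExc Cfsg.Agent.BpExc.FamField Cfsg.Agent.BpExc.TorCent Cfsg.Agent.BpExc.TorChev Cfsg.Agent.BpExc.Tow
  Cfsg.Agent.BpExc.TowChev Cfsg.Agent.BpExc.Fr Cfsg.Agent.BpExc.Pair Cfsg.Agent.BpExc.LangFr Cfsg.Agent.GpExc.Field
  Cfsg.Agent.BpExc.FamUntw Cfsg.Agent.BpExc.FamInst
open Cfsg.Agent.H469.Exc Cfsg.Agent.H469.Exc.SigFr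
open Cfsg.Agent.ChevalleyStructure.SignedSymm Cfsg.Agent.ChevalleyStructure.GraphSymm
open Cfsg.Agent.LangThm (mem_XX_vec)
open Cfsg.Agent.H316.U6

variable {D : ChevalleyDatum} {l : ℕ} {M : CoxeterMatrix (Fin l)} {r : ℕ} [hr : Fact r.Prime]

/-- the data with the given embedding (as `H316.U6.mdata_untw'`) -/
theorem mdata_std' (hp : IsType D l M) (F : Type) [Field F] [Fintype F] [CharP F r] {d : ℕ}
    {B : Fin l → Fin l → ℤ} (hB : H129.TorusChar.InvC D l d B) (hd : d ≠ 0) (hd1 : d = 1 ∨ d.Prime)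
    (f : F →+* KK r) {n : ℕ} (hn0 : 0 < n) (hn : Nat.card F = r ^ n) :
    ∃ m : MData hp r (Fintype.card F) ↥(D.group F), m.ι = emb hp.inList f ∧ m.σ = phi D (KK r) r n ∧
      m.g = AddEquiv.refl _ ∧ m.dd = Nat.gcd d (Fintype.card F - 1) := by
  have hk := locFin r
  have hfin := RowsUntw.finite_phi (D := D) (k := AlgebraicClosure (ZMod r)) (r := r) hn0
  have hq : Fintype.card F = r ^ n := by rw [← hn, Nat.card_eq_fintype_card]
  let φ : AlgebraicClosure (ZMod r) →+* AlgebraicClosure (ZMod r) :=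
    ((frb (AlgebraicClosure (ZMod r)) r n : AlgebraicClosure (ZMod r) ≃+* AlgebraicClosure (ZMod r)) :
      AlgebraicClosure (ZMod r) →+* AlgebraicClosure (ZMod r))
  have hφ : ∀ t, φ t = t ^ Fintype.card F := by
    intro t
    rw [hq]
    exact frb_apply _ r n t
  have hσφ : ∀ y : ↥(D.group (AlgebraicClosure (ZMod r))),
      ((phi D (AlgebraicClosure (ZMod r)) r n y : ↥(D.group (AlgebraicClosure (ZMod r)))) :
        GL D.Idx (AlgebraicClosure (ZMod r))) = glMap D φ (y : GL D.Idx (AlgebraicClosure (ZMod r))) := by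
    intro y
    apply Units.ext
    rfl
  have hfix : ∀ a, phi D (AlgebraicClosure (ZMod r)) r n (emb hp.inList f a) = emb hp.inList f a :=
    fun a => Emb.emb_fix hp.inList hφ hσφ a
  have hxs : ∀ s t, phi D (AlgebraicClosure (ZMod r)) r n (xs hp.inList s t) =
      xs hp.inList s (t ^ Fintype.card F) := by
    intro s t
    apply Subtype.ext
    rw [hσφ]
    apply Units.ext
    rw [coe_xs, coe_xs, coe_xG]
    rw [← hφ t]
    exact Cfsg.Agent.ChevStructure.FieldMap.x_map D φ s t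
  have hnorm : ∀ y, phi D (AlgebraicClosure (ZMod r)) r n y = y → ∀ x, ∃ x', emb hp.inList f x' =
      y * emb hp.inList f x * y⁻¹ := by
    intro y hy x
    obtain ⟨b, hb⟩ := Emb.conj_mem_range hp.inList (f := f) hφ hσφ hy (n := emb hp.inList f x) ⟨x, rfl⟩
    exact ⟨b, hb⟩
  have hpow : ∀ y, phi D (AlgebraicClosure (ZMod r)) r n y = y →
      y ^ Nat.gcd d (Fintype.card F - 1) ∈ (emb hp.inList f).range := by
    intro y hy
    have hy' : H129.TorusUntw.phi D (KK r) r n y = y := by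
      apply Subtype.ext
      rw [H129.TorusUntw.coe_phi]
      refine Eq.trans ?_ (congrArg Subtype.val hy)
      rw [hσφ]
      congr 1
      congr 1
      ext t
      rw [hφ, hq, iterateFrobenius_def]
    have h1 := fix_pow_range hp f hq hB hd hy'
    have h2 : Nat.gcd d (Fintype.card F - 1) = d ∨ Nat.gcd d (Fintype.card F - 1) = 1 := by
      rcases hd1 with h3 | h3
      · right; rw [h3, Nat.gcd_one_left]
      · rcases (Nat.dvd_prime h3).1 (Nat.gcd_dvd_left d (Fintype.card F - 1)) with h4 | h4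
        · exact Or.inr h4
        · exact Or.inl h4
    rcases h2 with h2 | h2
    · rw [h2]; exact h1
    · rw [h2, pow_one]
      exact H129.TorusUntw.fix_range hp M.toCoxeterSystem f hq hB hd
        (exists_root_of_coprime hd (Nat.Coprime.symm h2)) hy'
  refine ⟨{
    σ := phi D (AlgebraicClosure (ZMod r)) r n
    π := Equiv.refl _
    dd := Nat.gcd d (Fintype.card F - 1)
    norm := hnorm
    pow_dd := hpow
    g := AddEquiv.refl _
    e := n
    ι := emb hp.inList f
    he := hn0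
    hq := hq.symm
    frob := phi_isFrob r n
    fr := phi_fr hp M.toCoxeterSystem r hk n
    fin := hfin
    inj := emb_injective hp.inList f
    fix := hfix
    idx := ?_
    act := ?_
    perm := fun v i => rfl
    top := rfl
    gen := ?_ }, rfl, rfl, rfl, rfl⟩
  · intro y hy
    have hy' : glMap D φ (y : GL D.Idx (AlgebraicClosure (ZMod r))) = y := by rw [← hσφ, hy]
    obtain ⟨a, ha, t, ht, e⟩ := EmbSplit.untw_split hp.inList (Emb.fix_iff_range hφ) y.2 hy'
    have hta : t ∈ D.group (AlgebraicClosure (ZMod r)) := by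
      have h1 : t = ((emb hp.inList f ⟨a, ha⟩ : ↥(D.group (AlgebraicClosure (ZMod r)))) :
          GL D.Idx (AlgebraicClosure (ZMod r)))⁻¹ * y := by
        rw [coe_emb]
        exact eq_inv_mul_of_mul_eq e.symm
      rw [h1]
      exact mul_mem (inv_mem (SetLike.coe_mem _)) y.2
    have e' : y = emb hp.inList f ⟨a, ha⟩ * ⟨t, hta⟩ := Subtype.ext e
    have hσt : phi D (AlgebraicClosure (ZMod r)) r n ⟨t, hta⟩ = ⟨t, hta⟩ := by
      have h1 := hy
      rw [e', map_mul, hfix] at h1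
      exact mul_left_cancel h1
    have hft : IsOfFinOrder (⟨t, hta⟩ : ↥(D.group (AlgebraicClosure (ZMod r)))) := by
      have h1 : IsOfFinOrder (⟨⟨t, hta⟩, hσt⟩ : ↥(fixedSubgroup (phi D (AlgebraicClosure (ZMod r)) r n))) :=
        isOfFinOrder_of_finite _
      exact (fixedSubgroup (phi D (AlgebraicClosure (ZMod r)) r n)).subtype.isOfFinOrder h1
    obtain ⟨m, hm, hm1⟩ := RowsN.exists_coprime hp.inList (Subgroup.mem_subgroupOf.2 ht) hft
    refine ⟨m, hm, ?_⟩
    rw [e']
    exact RowsN.pow_mem_of_split (N := (emb hp.inList f).range) ⟨_, rfl⟩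
      (fun b hb => Emb.conj_mem_range hp.inList (f := f) hφ hσφ hσt hb) hm1
  · intro s hs
    exact ⟨s, rfl, hs, 1, one_ne_zero, fun t => by rw [hxs, one_mul], fun t => by rw [hxs, inv_one, one_mul]⟩
  · intro N hpos hneg
    have hxe : ∀ s (t : F), emb hp.inList f (xs hp.inList s t) = xs hp.inList s (f t) := by
      intro s t
      apply Subtype.ext
      rw [coe_emb]
      apply Units.ext
      rw [coe_xs, coe_xs, coe_xG]
      exact Cfsg.Agent.ChevStructure.FieldMap.x_map D f s t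
    rw [eq_top_iff, ← G1_eq_top (K := F) hp M.toCoxeterSystem]
    refine iSup_le ?_
    rintro ⟨x, hx⟩
    intro y hy
    obtain ⟨s, hs, rfl⟩ := (isRoot_iff hp _ _).1 hx
    obtain ⟨t, ht⟩ := (mem_XX_vec hp hs).1 hy
    have e : y = xs hp.inList s t := Subtype.ext ht
    rw [e]
    rcases hx.pos_or_neg with h0 | h0
    · exact hpos _ (by rw [hxe]; exact xs_mem_Sup_Pos hp hs h0 _)
    · exact hneg _ (by rw [hxe]; exact xs_mem_Sup_Neg hp hs h0 _)

theorem mdata_std (hp : IsType D l M) (F : Type) [Field F] [Fintype F] [CharP F r] {d : ℕ}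
    {B : Fin l → Fin l → ℤ} (hB : H129.TorusChar.InvC D l d B) (hd : d ≠ 0) (hd1 : d = 1 ∨ d.Prime)
    (f : F →+* KK r) {n : ℕ} (hn0 : 0 < n) (hn : Nat.card F = r ^ n) :
    ∃ m : MData hp r (Fintype.card F) ↥(D.group F), m.ι = emb hp.inList f ∧ m.σ = phi D (KK r) r n ∧
      m.g = AddEquiv.refl _ := by
  obtain ⟨m, h1, h2, h3, -⟩ := mdata_std' hp F hB hd hd1 f hn0 hn
  exact ⟨m, h1, h2, h3⟩

end Cfsg.Agent.H28.GenF
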