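import Cfsg.Agent.H28.GenF.Untw
import Cfsg.Agent.H28.T5TwSix
import Cfsg.Agent.CpAut.RgdTwE6

/-!
# S2187, field automorphisms of `²E₆(q)` (X6)

* `OverE6` : the overgroup theorem (statement);
* `ff_te6` : the frame `FF` for `²E₆(q) ≤ E₆(k)`;
* `top_te6` : `Gam p E = ⊤` for `E` containing an outer automorphism.
-/

set_option autoImplicit false
set_option linter.unusedSectionVars false

namespace Cfsg.Agent.H28.GenF

open CoxeterSystem Subgroup Cfsg Cfsg.Lie Cfsg.Lie.ChevalleyDatum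
open Cfsg.Agent.ChevalleyStructure Cfsg.Agent.ChevalleyStructure.Elts Cfsg.Agent.ChevalleyStructure.CoxeterGeom
  Cfsg.Agent.ChevalleyStructure.CoxeterGeomTypes Cfsg.Agent.ChevalleyStructure.NPerm
open Cfsg.Agent.Nodes.RGDChev Cfsg.Agent.KFacts.RgdChevCoord
open Cfsg.Agent.BpExc.TowChev Cfsg.Agent.BpExc.FamUntw Cfsg.Agent.BpExc.LangFr Cfsg.Agent.BpExc.FamField
  Cfsg.Agent.BpExc.RowsUntw
open Cfsg.Agent.ChevalleyStructure.GraphSymm (symmE6)
open Cfsg.Agent.ChevalleyStructure.TwE6Basic (hE6 single_mem pair_mem twisted_le_iff exists_frob)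
open Cfsg.Agent.H522.FamTw.Frame (sig6 sig6_pow sig6_sq isFrob_sig6 fr_sig6)
open Cfsg.Agent.BpExc.FamTw.Six (em em_injective coe_em)
open Cfsg.Agent.GpExc.Field (glMap emb coe_emb glMap_xG emb_injective coe_glMap glMap_injective)
open Cfsg.Agent.H469.Exc Cfsg.Agent.H469.Exc.SigFr
open Cfsg.Agent.H818.Gen Cfsg.Agent.H972.Gen

/-- the overgroup theorem for `²E₆` -/
def OverE6 : Prop :=
  ∀ {K : Type} [Field K] [Fintype K] (r : ℕ) [Fact r.Prime] [CharP K r] {q q0 p : ℕ}, (∃ a, 1 ≤ a ∧ q0 = r ^ a) →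
    p.Prime → p ≠ 2 → q = q0 ^ p → Fintype.card K = q ^ 2 → ∀ (K0 : Subfield K), Nat.card K0 = q0 ^ 2 →
    ∀ (H : Subgroup (GL chevE6.Idx K)), H ≤ twistedE6 K q →
    (∀ g ∈ twistedE6 ↥K0 q0, Units.map (RingHom.mapMatrix K0.subtype).toMonoidHom g ∈ H) →
    H = twistedE6 K q ∨ ∀ g ∈ H, ∀ i j, ((g : Matrix chevE6.Idx chevE6.Idx K) i j) ^ (q0 ^ 2) =
      (g : Matrix chevE6.Idx chevE6.Idx K) i j

section Res

variable {k₀ K : Type} [Field k₀] [Field K] {q₀ q : ℕ} (f : k₀ →+* K) (hf : ∀ t, f (t ^ q₀) = f t ^ q)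

include hf in
theorem tw6_le : twistedE6 k₀ q₀ ≤ (twistedE6 K q).comap (glMap chevE6 f) := by
  rw [twisted_le_iff]
  refine ⟨fun t ht r hr => ?_, fun t rs hr => ?_⟩
  · show glMap chevE6 f (xG hE6 r t) ∈ twistedE6 K q
    rw [glMap_xG]
    exact single_mem (by rw [← hf, ht]) hr
  · show glMap chevE6 f (xG hE6 rs.1 t * xG hE6 rs.2 (t ^ q₀)) ∈ twistedE6 K q
    rw [map_mul, glMap_xG, glMap_xG, hf]
    exact pair_mem (f t) hr

/-- the entrywise map -/
noncomputable def res6 : ↥(twistedE6 k₀ q₀) →* ↥(twistedE6 K q) where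
  toFun g := ⟨glMap chevE6 f g, tw6_le f hf g.2⟩
  map_one' := Subtype.ext (map_one _)
  map_mul' _ _ := Subtype.ext (map_mul _ _ _)

theorem coe_res6 (g : ↥(twistedE6 k₀ q₀)) : ((res6 f hf g : ↥(twistedE6 K q)) : GL chevE6.Idx K) =
    glMap chevE6 f g := rfl

theorem res6_injective : Function.Injective (res6 f hf) := fun _ _ h =>
  Subtype.ext (glMap_injective chevE6 f (congrArg Subtype.val h))

theorem em_res6 {L : Type} [Field L] (g : K →+* L) (a : ↥(twistedE6 k₀ q₀)) :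
    em q g (res6 f hf a) = em q₀ (g.comp f) a := by
  apply Subtype.ext
  apply Units.ext
  rw [coe_em, coe_em, coe_res6, coe_glMap, coe_glMap, coe_glMap, Matrix.map_map]
  rfl

end Res

section Ff

variable {r : ℕ} [Fact r.Prime]

/-- `r`-elements fixed by the twisted Frobenius automorphism come from the finite group -/
theorem mem_of_pow6 {F : Type} [Field F] [Fintype F] {q : ℕ} (hF : Fintype.card F = q ^ 2) {n : ℕ} (hn0 : 0 < n)
    (hn : q = r ^ n) (f : F →+* KK r) {y : ↥(chevE6.group (KK r))} (hy : sig6 (KK r) r n y = y) {j : ℕ}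
    (hj : y ^ r ^ j = 1) : ∃ a, em q f a = y := by
  have h1 : y ^ Nat.gcd 3 (q + 1) ∈ (em q f).range := H720.TwFr.desc6 f r (locFin r) hn0 hn hF hy
  have hr : r.Prime := Fact.out
  have h2 : ¬ r ∣ Nat.gcd 3 (q + 1) := by
    intro h
    have h3 : r ∣ q + 1 := h.trans (Nat.gcd_dvd_right _ _)
    have h4 : r ∣ q := by rw [hn]; exact dvd_pow_self _ hn0.ne'
    exact hr.one_lt.ne' (Nat.dvd_one.1 ((Nat.dvd_add_right h4).1 h3))
  have hcop : Nat.Coprime (Nat.gcd 3 (q + 1)) (r ^ j) :=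
    Nat.Coprime.pow_right j (((Nat.Prime.coprime_iff_not_dvd hr).2 h2).symm)
  have h3 : y ∈ Subgroup.zpowers (y ^ Nat.gcd 3 (q + 1)) :=
    mem_zpowers_pow_iff.2 (Nat.Coprime.coprime_dvd_right (orderOf_dvd_of_pow_eq_one hj) hcop)
  exact (Subgroup.zpowers_le.2 h1) h3

/-- the `r`-elements generate -/
theorem r_gen6 {F : Type} [Field F] [Fintype F] [CharP F r] {q : ℕ} (hq : IsPrimePow q)
    (hF : Fintype.card F = q ^ 2) (N : Subgroup ↥(twistedE6 F q)) (h : ∀ b : ↥(twistedE6 F q), b ^ r = 1 → b ∈ N) :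
    N = ⊤ := by
  obtain ⟨hs, -⟩ := Cfsg.Agent.S1070.result hq hF
  have h1 : Subgroup.normalClosure {b : ↥(twistedE6 F q) | b ^ r = 1} ≤ N := by
    refine (Subgroup.closure_le _).2 fun x hx => h x ?_
    obtain ⟨a, ha, hc⟩ := Group.mem_conjugatesOfSet_iff.1 hx
    obtain ⟨c, rfl⟩ := isConj_iff.1 hc
    have ha' : a ^ r = 1 := ha
    rw [conj_pow, ha', mul_one, mul_inv_cancel]
  rcases hs.eq_bot_or_eq_top_of_normal _ (Subgroup.normalClosure_normal (s := {b : ↥(twistedE6 F q) | b ^ r = 1})) with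
    h2 | h2
  · exfalso
    have h3 : xG hE6 46 (1 : F) ∈ twistedE6 F q := single_mem (one_pow _) (by simp)
    have h4 : (⟨xG hE6 46 (1 : F), h3⟩ : ↥(twistedE6 F q)) ∈ Subgroup.normalClosure {b : ↥(twistedE6 F q) | b ^ r = 1} := by
      refine Subgroup.subset_normalClosure ?_
      have h5 : ((xs e6T.inList 46 (1 : F)) ^ r : ↥(chevE6.group F)) = 1 := xs_pow_char (hp := e6T) (r := r) 46 1
      have h6 := congrArg Subtype.val h5
      rw [SubgroupClass.coe_pow, coe_xs] at h6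
      exact Subtype.ext h6
    rw [h2, Subgroup.mem_bot] at h4
    have h5 : xG hE6 46 (1 : F) = 1 := congrArg Subtype.val h4
    rw [xG_eq_one_iff hE6 (by decide)] at h5
    exact one_ne_zero h5
  · rw [eq_top_iff, ← h2]
    exact h1

/-- the exponents on a subfield -/
theorem pow_sub6 {F : Type} [Field F] {q₀ p : ℕ} (hp : p % 2 = 1) {t : F} (ht : t ^ (q₀ ^ 2) = t) :
    t ^ (q₀ ^ p) = t ^ q₀ := by
  have h1 : ∀ k : ℕ, t ^ (q₀ ^ (2 * k)) = t := by
    intro k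
    induction k with
    | zero => rw [mul_zero, pow_zero, pow_one]
    | succ k ih => rw [mul_add, mul_one, pow_add, pow_mul, ih, ht]
  have h2 : p = 2 * (p / 2) + 1 := by omega
  rw [h2, pow_succ, pow_mul, h1]

theorem card_sub6 {F : Type} [Field F] {c : ℕ} {F₀ : Subfield F} [Finite ↥F₀] (hF₀ : Nat.card ↥F₀ = c) (t : ↥F₀) :
    t ^ c = t := by
  have := Fintype.ofFinite ↥F₀
  rw [← hF₀, Nat.card_eq_fintype_card]
  exact FiniteField.pow_card t

/-- **The frame of a field automorphism of `²E₆(q)`.** -/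
theorem ff_te6 (OV : OverE6) {K : Type} [Field K] [Fintype K] [CharP K r] {q : ℕ} (hq : IsPrimePow q)
    (hK : Fintype.card K = q ^ 2) {p : ℕ} (hpp : p.Prime) (hp2 : p ≠ 2) (f : K →+* KK r) {n m : ℕ} (hn : q = r ^ n)
    (hn0 : 0 < n) (hm : 0 < m) (hmn : m * p = n) {K₀ : Subfield K} (hK₀ : Nat.card ↥K₀ = (r ^ m) ^ 2)
    (hgen : Gen p ↥(twistedE6 ↥K₀ (r ^ m))) (hf : ∀ t : ↥K₀, K₀.subtype (t ^ r ^ m) = K₀.subtype t ^ q) :
    FF p (em q f) (sig6 (KK r) r n) (sig6 (KK r) r m) (res6 K₀.subtype hf).range := by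
  have hodd : p % 2 = 1 := hpp.eq_two_or_odd.resolve_left hp2
  have hchar : CharP ↥K₀ r := (RingHom.charP_iff K₀.subtype K₀.subtype.injective r).2 inferInstance
  have hfin : Fintype ↥K₀ := Fintype.ofFinite _
  have hr : r.Prime := Fact.out
  have hq₀ : IsPrimePow (r ^ m) := (isPrimePow_nat_iff _).2 ⟨r, m, hr, hm, rfl⟩
  have hK₀' : Fintype.card ↥K₀ = (r ^ m) ^ 2 := by rw [← Nat.card_eq_fintype_card, hK₀]
  obtain ⟨f₀, hf₀⟩ : ∃ f₀ : ↥K₀ →+* KK r, f₀ = f.comp K₀.subtype := ⟨_, rfl⟩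
  obtain ⟨φ, hφ, hqq⟩ := exists_frob hq hK
  obtain ⟨φ₀, hφ₀, hqq₀⟩ := exists_frob hq₀ hK₀'
  have hk := locFin r
  have hφk : ∀ t : KK r, iterateFrobenius (KK r) r n t = t ^ q := fun t => by
    rw [iterateFrobenius_def, hn]
  have hem : ∀ b, em q f (res6 K₀.subtype hf b) = em (r ^ m) f₀ b := fun b => by rw [em_res6, hf₀]
  have hfixn : ∀ a, sig6 (KK r) r n (em q f a) = em q f a := fun a => H522.FamTw.Six.sig6_em f r hφ hqq hn a
  have hfixm : ∀ b, sig6 (KK r) r m (em (r ^ m) f₀ b) = em (r ^ m) f₀ b := fun b =>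
    H522.FamTw.Six.sig6_em f₀ r hφ₀ hqq₀ rfl b
  have hpow : sig6 (KK r) r m ^ p = sig6 (KK r) r n := by rw [sig6_pow r hodd, hmn]
  refine
    { inj := em_injective f
      cent := fun z hz => H522.FamTw.Six.eq_one_of_comm hφ hqq f z hz
      fixι := hfixn
      norm := fun y hy a => ?_
      pow := hpow
      lang := fun h => ?_
      genL := hgen.congr (MonoidHom.ofInjective (res6_injective K₀.subtype hf))
      fixL := ?_
      charL := ?_
      overL := ?_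
      centL := ?_ }
  · obtain ⟨b, hb⟩ := H27.Exc.conj_mem (coe_em f)
      (BpExc.EmbInst.twE6_normalizer hq hK hφk y.2 (by rw [← H720.TwFr.coe_sig6, hy])) _ ⟨a, rfl⟩
    exact ⟨b, hb⟩
  · obtain ⟨z, hz⟩ := lang_all e6T CoxeterMatrix.E₆.toCoxeterSystem hm (isFrob_sig6 r m)
      (fr_sig6 hk r e6T CoxeterMatrix.E₆.toCoxeterSystem m) 1 h
    rw [map_one, one_mul] at hz
    exact ⟨z, hz⟩
  · rintro _ ⟨b, rfl⟩
    rw [hem, hfixm]
  · intro x hx
    obtain ⟨N, hN⟩ : ∃ N : Subgroup ↥(twistedE6 ↥K₀ (r ^ m)), ∀ b, b ∈ N ↔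
        x (res6 K₀.subtype hf b) ∈ (res6 K₀.subtype hf).range :=
      ⟨((res6 K₀.subtype hf).range.comap x.toMonoidHom).comap (res6 K₀.subtype hf), fun b => Iff.rfl⟩
    have h1 : N = ⊤ := r_gen6 hq₀ hK₀' N fun b hb => by
      rw [hN]
      have h2 := hx (res6 K₀.subtype hf b) (by rw [hem, hfixm])
      obtain ⟨b', hb'⟩ := mem_of_pow6 hK₀' hm rfl f₀ h2 (j := 1) (by
        rw [pow_one, ← map_pow, ← map_pow, ← map_pow, hb, map_one, map_one, map_one])
      exact ⟨b', em_injective f (by rw [hem, hb'])⟩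
    rintro _ ⟨b, rfl⟩
    rw [← hN, h1]
    exact mem_top _
  · intro M hM
    rcases OV r (q := q) (q0 := r ^ m) (p := p) ⟨m, hm, rfl⟩ hpp hp2 (by rw [hn, ← hmn, pow_mul]) hK K₀ hK₀
      (M.map (twistedE6 K q).subtype) (map_subtype_le _) (fun g hg =>
        ⟨res6 K₀.subtype hf ⟨g, hg⟩, hM ⟨⟨g, hg⟩, rfl⟩, rfl⟩) with h | h
    · left
      rw [eq_top_iff]
      rintro ⟨g, hg⟩ _
      have hg' := hg
      rw [← h] at hg'
      obtain ⟨a, ha, e⟩ := hg'
      have e' : a = ⟨g, hg⟩ := Subtype.ext e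
      rwa [← e']
    · right
      intro a ha
      have h1 : (sig6 (KK r) r m ^ 2) (em q f a) = em q f a := by
        rw [sig6_sq]
        apply Subtype.ext
        apply Units.ext
        rw [phi_coe, coe_em, coe_glMap]
        ext i j
        rw [Matrix.map_apply, Matrix.map_apply]
        have h2 := h _ ⟨a, ha, rfl⟩ i j
        rw [← pow_mul] at h2
        have h3 : ((((twistedE6 K q).subtype a : GL chevE6.Idx K) : Matrix chevE6.Idx chevE6.Idx K) i j) =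
          ((a : GL chevE6.Idx K) : Matrix chevE6.Idx chevE6.Idx K) i j := rfl
        rw [h3] at h2
        show f _ ^ _ = f _
        rw [← map_pow, h2]
      have h2 : ∀ k : ℕ, ((sig6 (KK r) r m ^ 2) ^ k) (em q f a) = em q f a := fun k => apply_pow h1 k
      have h3 := hfixn a
      rw [← hpow] at h3
      have h4 : p = 1 + 2 * (p / 2) := by omega
      rw [h4, pow_add, pow_one, pow_mul, MulAut.mul_apply, h2] at h3
      exact h3
  · intro y hy
    exact H522.FamTw.Six.eq_one_of_comm hφ₀ hqq₀ f₀ y fun b => by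
      rw [← hem]
      exact hy _ ⟨b, rfl⟩

end Ff

section Main

variable {r : ℕ} [Fact r.Prime] {K : Type} [Field K] [Fintype K] [CharP K r] {q : ℕ} (hq : IsPrimePow q)
  (hK : Fintype.card K = q ^ 2) {p : ℕ} (hpp : p.Prime) (hp2 : p ≠ 2) (f : K →+* KK r) {n : ℕ} (hn : q = r ^ n)

include hq hK hpp hp2 hn in
/-- the automorphisms of order `p` -/
theorem cases_te6 {x : MulAut ↥(twistedE6 K q)} (hx : x ^ p = 1) :
    x ∈ InD (em q f) ∨ (n / p * p = n ∧ 0 < n / p ∧ ∃ (i : ℕ) (y : ↥(chevE6.group (KK r))), i.Coprime p ∧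
      ∀ a, em q f ((x ^ i) a) = (MulAut.conj y * sig6 (KK r) r (n / p)) (em q f a)) := by
  obtain ⟨φ, hφ, hqq⟩ := exists_frob hq hK
  rcases H522.FamTw.Six.cases f r hφ hqq (fun a => IsAlgClosed.exists_pow_nat_eq (f a) (by norm_num)) hn hq.one_lt hK
    hpp hp2 hx with h | h
  · obtain ⟨y, -, -, h⟩ := h
    exact Or.inl ⟨y, h⟩
  · right
    obtain ⟨i, m, hi, hm0, hmn, y, -, h⟩ := h
    have e : n / p = m := by rw [← hmn, Nat.mul_div_cancel _ hpp.pos]
    rw [e]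
    exact ⟨hmn, hm0, i, y, hi, h⟩

include hq hK hpp hp2 in
/-- **Outer automorphisms.** -/
theorem top_te6 (OV : OverE6)
    (ih : ∀ (K₀ : Type) [Field K₀] [Fintype K₀] [CharP K₀ r] (q₀ : ℕ), q₀ < q → IsPrimePow q₀ →
      Fintype.card K₀ = q₀ ^ 2 → Gen p ↥(twistedE6 K₀ q₀))
    {E : Subgroup (MulAut ↥(twistedE6 K q))} (hE : IsElementaryAbelian p E) (hc : p ^ 2 ≤ Nat.card E)
    {x : MulAut ↥(twistedE6 K q)} (hx : x ∈ E) (hx' : x ∉ InD (em q f)) : Gam p E = ⊤ := by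
  have : Fact p.Prime := ⟨hpp⟩
  have hodd : p % 2 = 1 := hpp.eq_two_or_odd.resolve_left hp2
  have hr : r.Prime := Fact.out
  have hfin : Finite ↥(twistedE6 K q) := Finite.of_injective _ (Subgroup.subtype_injective _)
  obtain ⟨n, hn0, hn⟩ := exists_eq_pow (r := r) hq hK
  obtain ⟨hmn, hm0, -⟩ := (cases_te6 hq hK hpp hp2 f hn (hE.2 x hx)).resolve_left hx'
  obtain ⟨F₀, hF₀, -⟩ := H192.Fc.exists_subfield (p := p) r (F := K) (m := 2 * (n / p)) (n := 2 * n) (by omega)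
    (by rw [mul_assoc, hmn]) (by rw [Nat.card_eq_fintype_card, hK, hn, ← pow_mul, mul_comm])
  have hchar : CharP ↥F₀ r := (RingHom.charP_iff F₀.subtype F₀.subtype.injective r).2 inferInstance
  have := Fintype.ofFinite ↥F₀
  have hF₀' : Nat.card ↥F₀ = (r ^ (n / p)) ^ 2 := by rw [hF₀, ← pow_mul, mul_comm]
  have hgen : Gen p ↥(twistedE6 ↥F₀ (r ^ (n / p))) := ih ↥F₀ (r ^ (n / p)) (by
      rw [hn]
      refine Nat.pow_lt_pow_right hr.one_lt ?_
      calc n / p = n / p * 1 := (mul_one _).symm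
        _ < n / p * p := Nat.mul_lt_mul_of_pos_left hpp.one_lt hm0
        _ = n := hmn) ((isPrimePow_nat_iff _).2 ⟨r, n / p, hr, hm0, rfl⟩) (by
    rw [← Nat.card_eq_fintype_card, hF₀'])
  refine (ff_te6 OV hq hK hpp hp2 f hn hn0 hm0 hmn hF₀' hgen fun t => ?_).top (fun z hz => ?_) hE hc hx hx'
  · rw [map_pow, hn]
    conv_rhs => rw [← hmn, pow_mul]
    refine (pow_sub6 hodd ?_).symm
    rw [← map_pow, card_sub6 hF₀']
  · exact (cases_te6 hq hK hpp hp2 f hn (hE.2 z hz)).imp_right fun h => h.2.2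

end Main

end Cfsg.Agent.H28.GenF
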