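import Cfsg.Agent.H28.GenF.TwSix
import Cfsg.Agent.H316.U6Model
import Cfsg.Agent.H818.Gen.Exc

/-!
# S2187: the row of `²E₆(q)` from its inner-diagonal part and the overgroup theorem (X6)

* `mdata_te6` : `MData` with the given embedding;
* `gen_te6`.
-/

set_option autoImplicit false
set_option linter.unusedSectionVars false

namespace Cfsg.Agent.H28.GenF

open CoxeterSystem Subgroup Cfsg Cfsg.Lie Cfsg.Lie.ChevalleyDatum
open Cfsg.Agent.ChevalleyStructure Cfsg.Agent.ChevalleyStructure.Elts Cfsg.Agent.ChevalleyStructure.CoxeterGeom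
  Cfsg.Agent.ChevalleyStructure.CoxeterGeomTypes Cfsg.Agent.ChevalleyStructure.NPerm
open Cfsg.Agent.Tits.Roots Cfsg.Agent.Tits.Core Cfsg.Agent.Nodes Cfsg.Agent.Nodes.Reps Cfsg.Agent.Nodes.BNOf
  Cfsg.Agent.Nodes.OppDec
  Cfsg.Agent.Nodes.RGDChev Cfsg.Agent.Nodes.Bruhat Cfsg.Agent.Nodes.NormalForm
open Cfsg.Agent.KFacts.RgdField Cfsg.Agent.KFacts.RgdChevCoord
open Cfsg.Agent.BpExc Cfsg.Agent.BpExc.FamField Cfsg.Agent.BpExc.TorCent Cfsg.Agent.BpExc.TorChev Cfsg.Agent.BpExc.Tow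
  Cfsg.Agent.BpExc.TowChev Cfsg.Agent.BpExc.Fr Cfsg.Agent.BpExc.Pair Cfsg.Agent.BpExc.LangFr Cfsg.Agent.GpExc.Field
  Cfsg.Agent.BpExc.FamUntw Cfsg.Agent.BpExc.FamInst
open Cfsg.Agent.H469.Exc Cfsg.Agent.H469.Exc.SigFr
open Cfsg.Agent.ChevalleyStructure.SignedSymm Cfsg.Agent.ChevalleyStructure.GraphSymm
open Cfsg.Agent.LangThm (mem_XX_vec)
open Cfsg.Agent.H316.U6
open Cfsg.Agent.H522.FamTw.Frame (sig6)
open Cfsg.Agent.BpExc.FamTw.Gr (gr coe_gr)
open Cfsg.Agent.BpExc.FamTw.Six (em em_injective coe_em)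
open Cfsg.Agent.ChevalleyStructure.TwE6Basic (hE6 sg exists_frob)
open Cfsg.Agent.CpAut.RgdUntw (fld)
open Cfsg.Agent.H818.Gen Cfsg.Agent.H972.Gen

variable {r : ℕ} [hr : Fact r.Prime]

/-- **`MData` of `²E₆(q)` with the given embedding** (as `H316.U6.mdata_twE6'`). -/
theorem mdata_te6 {K : Type} [Field K] [Fintype K] [CharP K r] {q : ℕ} (hq : IsPrimePow q)
    (hK : Fintype.card K = q ^ 2) (f : K →+* KK r) {m : ℕ} (hm0 : 0 < m) (hm : q = r ^ m) :
    ∃ d : MData Nodes.RGDTwE6.hp r q ↥(twistedE6 K q), d.ι = em q f ∧ d.σ = sig6 (KK r) r m ∧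
      d.dd = Nat.gcd 3 (q + 1) ∧ d.g = H720.TwFr.permE H720.TwFr.rho6 := by
  have hk := locFin r
  obtain ⟨Φ, hΦe⟩ : ∃ Φ : KK r ≃+* KK r, Φ = frb (KK r) r m := ⟨_, rfl⟩
  have hΦ : ∀ a, Φ a = a ^ r ^ m := by
    intro a
    rw [hΦe]
    exact frb_apply _ r m a
  have hφ : ∀ a, (Φ : KK r →+* KK r) a = a ^ q := by
    intro a
    rw [hm]
    exact hΦ a
  have hγ := coe_gr (L := KK r) hE6 symmE6
  have hsig : (gr hE6 symmE6 * fld chevE6 Φ : MulAut ↥(chevE6.group (KK r))) = sig6 (KK r) r m := by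
    rw [hΦe]
    rfl
  have hσ := SigFr.isFrob_symm_fld (p := r) symmE6 hγ hΦ
  have Fσ := (SigFr.fr_E6 hγ CoxeterMatrix.E₆.toCoxeterSystem).mul
    (SigFr.fr_fld Nodes.RGDTwE6.hp CoxeterMatrix.E₆.toCoxeterSystem Φ)
  have hfin := Sig.finite_fixed hk hm0 hσ
  have hsg : ∀ y : ↥(chevE6.group (KK r)),
      (((gr hE6 symmE6 * fld chevE6 Φ : MulAut ↥(chevE6.group (KK r))) y :
        ↥(chevE6.group (KK r))) : GL chevE6.Idx (KK r)) =
      sg (Φ : KK r →+* KK r) (y : GL chevE6.Idx (KK r)) := by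
    intro y
    rfl
  have hfix : ∀ a, (gr hE6 symmE6 * fld chevE6 Φ : MulAut ↥(chevE6.group (KK r))) (em q f a) = em q f a := by
    intro a
    apply Subtype.ext
    rw [hsg, coe_em]
    exact (EmbInst.twE6_fix (f := f) hq hK hφ a.2).2
  have hnorm : ∀ y, (gr hE6 symmE6 * fld chevE6 Φ : MulAut ↥(chevE6.group (KK r))) y = y → ∀ x, ∃ x',
      em q f x' = y * em q f x * y⁻¹ := by
    intro y hy x
    have h1 : sg (Φ : KK r →+* KK r) (y : GL chevE6.Idx (KK r)) = y := by rw [← hsg, hy]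
    have hn := EmbInst.twE6_normalizer (f := f) hq hK hφ y.2 h1
    obtain ⟨b, hb, hb'⟩ := (Subgroup.mem_normalizer_iff.1 hn (glMap chevE6 f x)).1 ⟨x, x.2, rfl⟩
    exact ⟨⟨b, hb⟩, Subtype.ext hb'⟩
  have hpow : ∀ y, (gr hE6 symmE6 * fld chevE6 Φ : MulAut ↥(chevE6.group (KK r))) y = y →
      y ^ Nat.gcd 3 (q + 1) ∈ (em q f).range := by
    intro y hy
    have h1 : sg (Φ : KK r →+* KK r) (y : GL chevE6.Idx (KK r)) = y := by rw [← hsg, hy]
    have h2 : iterateFrobenius (KK r) r m = (Φ : KK r →+* KK r) := by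
      ext t
      rw [iterateFrobenius_def, ← hm, hφ]
    have h3 := H720.TwFr.coe_sig6 (k := KK r) r m y
    rw [h2, h1] at h3
    exact H720.TwFr.desc6 f r hk hm0 hm hK (Subtype.ext h3)
  refine ⟨{
    σ := _
    π := symmE6.σ₀.symm
    dd := Nat.gcd 3 (q + 1)
    norm := hnorm
    pow_dd := hpow
    g := _
    e := m
    ι := em q f
    he := hm0
    hq := hm.symm
    frob := hσ
    fr := Fσ
    fin := hfin
    inj := em_injective f
    fix := hfix
    idx := ?_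
    act := ?_
    perm := fun v i => rfl
    top := topE6
    gen := gen_of_words Nodes.RGDTwE6.hp f (fun _ => rfl) (wordsE6 q) }, rfl, hsig, rfl, g_eq_six⟩
  · intro y hy
    have h1 : sg (Φ : KK r →+* KK r) (y : GL chevE6.Idx (KK r)) = y := by rw [← hsg, hy]
    obtain ⟨g, hg, t, ht, e⟩ := EmbInst.twE6_split (f := f) hq hK hφ y.2 h1
    have ht' : t ∈ chevE6.group (KK r) := diagonal_le_group hE6 _ ht
    have hn := EmbInst.twE6_normalizer (f := f) hq hK hφ y.2 h1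
    refine H469.Exc.pow_mem_range Nodes.RGDTwE6.hp (em q f) hfix hy (fun a => ?_) (a := ⟨g, hg⟩) (t := ⟨t, ht'⟩) ht
      (Subtype.ext e)
    obtain ⟨b, hb, hb'⟩ := (Subgroup.mem_normalizer_iff.1 hn (glMap chevE6 f a)).1 ⟨a, a.2, rfl⟩
    exact ⟨⟨b, hb⟩, Subtype.ext hb'⟩
  · intro s hs
    refine ⟨symmE6.σ ⟨s, hs⟩, ?_, actF_symm_fld symmE6 _ hγ (fun a => (hφ a)) ⟨s, hs⟩⟩
    funext i
    exact piE6 ⟨s, hs⟩ i

/-- **The row of `²E₆(q)` from its inner-diagonal part and the overgroup theorem.** -/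
theorem gen_te6 (OV : OverE6) {p : ℕ} (hpp : p.Prime) (hp2 : p ≠ 2)
    (hin : ∀ (K : Type) [Field K] [Fintype K] [CharP K r] (q n : ℕ) (f : K →+* KK r)
      (m : MData Nodes.RGDTwE6.hp r q ↥(twistedE6 K q)), IsPrimePow q → Fintype.card K = q ^ 2 → q = r ^ n →
      m.ι = em q f → m.σ = sig6 (KK r) r n → m.dd = Nat.gcd 3 (q + 1) →
      m.g = H720.TwFr.permE H720.TwFr.rho6 → GenIn m p) :
    ∀ (K : Type) [Field K] [Fintype K] [CharP K r] (q : ℕ), IsPrimePow q → Fintype.card K = q ^ 2 →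
      Gen p ↥(twistedE6 K q) := by
  have : Fact p.Prime := ⟨hpp⟩
  have key : ∀ (c : ℕ) (K : Type) [Field K] [Fintype K] [CharP K r], IsPrimePow c → Fintype.card K = c ^ 2 →
      Gen p ↥(twistedE6 K c) := by
    intro c
    induction c using Nat.strong_induction_on with
    | _ c ih =>
      intro K _ _ _ hc hK E hE hE2
      obtain ⟨f⟩ := RowsUntw.exists_emb r K
      by_cases h : E ≤ InD (em c f)
      · obtain ⟨n, hn0, hn⟩ := H469.Exc.exists_eq_pow (r := r) hc hK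
        obtain ⟨m, hm1, hm2, hm3, hm4⟩ := mdata_te6 hc hK f hn0 hn
        obtain ⟨φ, hφ, hqq⟩ := exists_frob hc hK
        have hcc : ∀ z : ↥(chevE6.group (KK r)), (∀ a, z * m.ι a = m.ι a * z) → z = 1 := fun z hz => by
          rw [hm1] at hz
          exact H522.FamTw.Six.eq_one_of_comm hφ hqq f z hz
        refine top_of_inner m.inj m.norm hcc (hin K c n f m hc hK hn hm1 hm2 hm3 hm4) hE hE2 fun e he he1 => ?_
        obtain ⟨y, hy⟩ := h he
        rw [← hm1] at hy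
        refine ⟨y, ?_, hy⟩
        have h2 : y⁻¹ * m.σ y = 1 := by
          apply hcc
          intro a
          have h3 : m.σ y * m.ι a * (m.σ y)⁻¹ = y * m.ι a * y⁻¹ := by
            rw [← hy, ← m.fix (e a), hy, map_mul, map_mul, map_inv, m.fix]
          calc y⁻¹ * m.σ y * m.ι a = y⁻¹ * (m.σ y * m.ι a * (m.σ y)⁻¹) * m.σ y := by group
            _ = y⁻¹ * (y * m.ι a * y⁻¹) * m.σ y := by rw [h3]
            _ = m.ι a * (y⁻¹ * m.σ y) := by group
        exact (inv_mul_eq_one.1 h2).symm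
      · obtain ⟨x, hx, hx'⟩ := Set.not_subset.1 h
        exact top_te6 hc hK hpp hp2 f OV (fun K₀ _ _ _ q₀ h0 h1 h2 => ih q₀ h0 K₀ h1 h2) hE hE2 hx hx'
  exact fun K _ _ _ q h1 h2 => key q K h1 h2

end Cfsg.Agent.H28.GenF
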